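import Cfsg.Agent.CosetEnum.WE8C.Data

set_option autoImplicit false
set_option maxRecDepth 100000
set_option Elab.async false

/-! Deductions for the coset table on 27 cosets (generated certificate). -/

namespace CfsgLib.CosetEnum.WE8C

def B0 : ℕ := 0x1060c9208a09a430c24120b0ce1a4930838b060c1

theorem tree0 : foldR (tree 6 tb id parN parX) 5 0 0 = B0 := by decide +kernel

theorem goodT0 : enum.Good B0 := enum.good_tree_block 5 0 _ _ enum.good_zero tree0

theorem good0 : enum.Good B0 := goodT0

def D1 : ℕ := 0xff00000000ff00000000ff00000000ff00000000ff00000000ff00000000ff00000000ff00000000ff00000000ff00000000ff00000000ff00000000ff00000000ff00000000ff00000000ff00000000ff00000000ff00000000ff00000000ff00000000ff00000000ff00000000ff00000000ff00000000ff00000000ff00000000ff00000000ff0000001810020000170d01000016090100001309010000190402000014040100001204010000100401000018030200000b03010000170202000014010200001201020000191301000012130200001811010000150e030000190d020000100d010000170c020000120a02000019090200000d090100001808020000160801000013080100000908010000160702000011070300000d0702000010050100000c050100000b050100000b040100001403010000120301000014020100000c020100000b020100000d010300000a01030000090103000012110200000910030000100e0200000c0c030000080c020000050c0300000d0a0100000a0a010000090a0100000909010000080703000007070300000a030200000802020000070202000003130200000a1101000006110200000310020000060e030000040e030000020e020000070d010000040d020000020d010000020c020000060a020000040a020000030a020000010a0100000409020000010901000003080200000108010000010702000012050200000605020000040502000003050200000005010000040402000000040100000303020000000301000010020200000202020000000201000000010200000019000000001800000000170000000016000000001500000004130200000311020000130a0200000a080200000c0302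

def B1 : ℕ := 0x3ffffffffffffffffffffffffffffffffffffffff

theorem step1 : runDed 6 tb id wd 21 26 7 D1 B0 = B1 := by decide +kernel

theorem good1 : enum.Good B1 :=
  enum.good_ded 7 D1 21 26 _ _ rfl rfl good0 step1

end CfsgLib.CosetEnum.WE8C
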