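import Cfsg.Agent.CosetEnum.Upper
import Cfsg.Agent.CosetEnum.WE8.Setup

set_option autoImplicit false

/-! Coset table of `Cfsg.Spor.WE8` on 27 cosets. -/

namespace CfsgLib.CosetEnum.WE8C

def t0 : ℕ := 0x1a000190001800017000140001500016000120001300010000110000c0000b0000d0000f0000e0000a00009000080000700006000050000400003000020000000001
def t1 : ℕ := 0x1a0001900018000160001700013000140001500012000110000d0000f0000e000100000a000090000c0000b000080000700006000050000400003000010000200000
def t2 : ℕ := 0x1a000190001700018000160001500014000110001000013000120000f0000e0000d0000c0000b00008000070000a0000900006000050000400002000030000100000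
def t3 : ℕ := 0x1a00018000190001700016000150001400013000120000f0000c000110000e0000a000100000b0000d00009000080000500006000070000300004000020000100000
def t4 : ℕ := 0x190001a0001800017000160001500014000130001200011000100000e0000f0000d0000b0000c000090000a000070000800004000050000600003000020000100000
def t5 : ℕ := 0x1a000190001800015000130001700012000160001400011000100000f0000e0000d0000c0000b0000a00009000060000400008000030000700005000020000100000

/-- The packed table of a letter. -/
noncomputable def tb (x : ℕ) : ℕ := (Bool.rec (motive := fun _ => ℕ) (Bool.rec (motive := fun _ => ℕ) t0 (Bool.rec (motive := fun _ => ℕ) t1 t2 (Nat.ble 2 x)) (Nat.ble 1 x)) (Bool.rec (motive := fun _ => ℕ) t3 (Bool.rec (motive := fun _ => ℕ) t4 t5 (Nat.ble 5 x)) (Nat.ble 4 x)) (Nat.ble 3 x))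

def parN : ℕ := 0x1900018000170001500013000130001200011000100000f0000c0000c0000b0000a0000a0000900008000070000600004000040000300003000020000100000fffff
def parX : ℕ := 0x40000300002000050000500001000050000200002000030000300000000000000300001000010000200002000050000500004000050000300002000010000000000

/-- Relators, then subgroup generators. -/
def allW : List (List ℕ) := [
  [0, 0],
  [0, 1, 0, 1, 0, 1],
  [0, 2, 0, 2],
  [0, 3, 0, 3],
  [0, 4, 0, 4],
  [0, 5, 0, 5],
  [1, 1],
  [1, 2, 1, 2, 1, 2],
  [1, 3, 1, 3],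
  [1, 4, 1, 4],
  [1, 5, 1, 5],
  [2, 2],
  [2, 3, 2, 3, 2, 3],
  [2, 4, 2, 4],
  [2, 5, 2, 5, 2, 5],
  [3, 3],
  [3, 4, 3, 4, 3, 4],
  [3, 5, 3, 5],
  [4, 4],
  [4, 5, 4, 5],
  [5, 5],
  [1],
  [2],
  [3],
  [4],
  [5]]

/-- The relators in local letters. -/
def rels : List (List ℕ) := [
  [0, 0],
  [0, 1, 0, 1, 0, 1],
  [0, 2, 0, 2],
  [0, 3, 0, 3],
  [0, 4, 0, 4],
  [0, 5, 0, 5],
  [1, 1],
  [1, 2, 1, 2, 1, 2],
  [1, 3, 1, 3],
  [1, 4, 1, 4],
  [1, 5, 1, 5],
  [2, 2],
  [2, 3, 2, 3, 2, 3],
  [2, 4, 2, 4],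
  [2, 5, 2, 5, 2, 5],
  [3, 3],
  [3, 4, 3, 4, 3, 4],
  [3, 5, 3, 5],
  [4, 4],
  [4, 5, 4, 5],
  [5, 5]]

/-- The enumeration. -/
noncomputable def enum : Local CfsgLib.CosetEnum.WE8.setup where
  L := [1, 2, 3, 4, 5, 6]
  L' := [2, 3, 4, 5, 6]
  known := []
  known_one := fun v hv => absurd hv List.not_mem_nil
  rels := rels
  rels_ok := by decide +kernel
  subs := [1, 2, 3, 4, 5]
  subs_ok := by decide +kernel
  all := allW
  all_eq := by decide +kernel
  n := 27
  tb := tb
  parN := parN
  parX := parX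

/-- The word with a given index. -/
def wd (r : ℕ) : List ℕ := allW.getD r []

end CfsgLib.CosetEnum.WE8C
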